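import Mathlib
import Cfsg.Prelude.Def_Transfer

/-!
# Counting conjugacy classes of π-elements
-/

namespace Cfsg.Agent.Lib.PiClasses

variable {G : Type*} [Group G]

/-- If every fibre of a surjection `f : A → B` either meets `Fix` or has at least `m` elements, then
`m * |B| ≤ |A| + (m - 1) * |Fix|`. -/
theorem mul_card_le_of_fibers {A B : Type*} [Finite A] {f : A → B} (hf : Function.Surjective f)
    (Fix : Set A) {m : ℕ} (h : ∀ a, a ∉ Fix → m ≤ Nat.card {x : A // f x = f a}) :
    m * Nat.card B ≤ Nat.card A + (m - 1) * Nat.card Fix := by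
  classical
  have := Fintype.ofFinite A
  have : Finite B := Finite.of_surjective f hf
  have := Fintype.ofFinite B
  have hA : (Finset.univ : Finset A).card = ∑ b : B, (Finset.univ.filter fun a => f a = b).card :=
    Finset.card_eq_sum_card_fiberwise (fun _ _ => Finset.mem_univ _)
  have hF : Fix.toFinset.card = ∑ b : B, (Fix.toFinset.filter fun a => f a = b).card :=
    Finset.card_eq_sum_card_fiberwise (fun _ _ => Finset.mem_univ _)
  rw [Nat.card_eq_fintype_card, Nat.card_eq_fintype_card (α := A), Nat.card_eq_fintype_card (α := Fix),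
    ← Set.toFinset_card, hF, ← Finset.card_univ, ← Finset.card_univ, hA, Finset.mul_sum,
    ← Finset.sum_add_distrib]
  rw [mul_comm, ← smul_eq_mul, ← Finset.sum_const]
  refine Finset.sum_le_sum fun b _ => ?_
  obtain ⟨a, rfl⟩ := hf b
  by_cases hne : ∃ x ∈ Fix, f x = f a
  · obtain ⟨x, hx, hxa⟩ := hne
    have h1 : 1 ≤ (Fix.toFinset.filter fun y => f y = f a).card :=
      Finset.card_pos.2 ⟨x, by simp [hx, hxa]⟩
    have h2 : 1 ≤ (Finset.univ.filter fun y => f y = f a).card :=
      Finset.card_pos.2 ⟨a, by simp⟩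
    have h3 : m - 1 ≤ (m - 1) * (Fix.toFinset.filter fun y => f y = f a).card :=
      Nat.le_mul_of_pos_right _ h1
    omega
  · push Not at hne
    have := h a fun ha => hne a ha rfl
    rw [Nat.card_eq_fintype_card, Fintype.card_subtype] at this
    omega

/-- `x` is a π-element. -/
def IsPiEl (π : Finset ℕ) (x : G) : Prop := ∀ r : ℕ, r.Prime → r ∣ orderOf x → r ∈ π

theorem IsPiEl.conj {π : Finset ℕ} {x : G} (h : IsPiEl π x) (g : G) : IsPiEl π (g * x * g⁻¹) := by
  have : orderOf (g * x * g⁻¹) = orderOf x := by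
    rw [← MulAut.conj_apply]; exact orderOf_injective (MulAut.conj g).toMonoidHom (MulAut.conj g).injective x
  simpa [IsPiEl, this] using h

theorem isPiEl_of_isConj {π : Finset ℕ} {x y : G} (h : IsPiEl π x) (hc : IsConj x y) : IsPiEl π y := by
  obtain ⟨g, rfl⟩ := isConj_iff.1 hc
  exact h.conj g

theorem isPiEl_singleton_iff [Finite G] {p : ℕ} (hp : p.Prime) {x : G} :
    IsPiEl {p} x ↔ ∃ k, orderOf x = p ^ k := by
  refine ⟨fun h => ⟨_, Nat.eq_prime_pow_of_unique_prime_dvd (orderOf_pos x).ne'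
    (fun {d} hd hdvd => Finset.mem_singleton.1 (h d hd hdvd))⟩, ?_⟩
  rintro ⟨k, hk⟩ r hr hrd
  rw [hk] at hrd
  simpa using (Nat.prime_dvd_prime_iff_eq hr hp).1 (hr.dvd_of_dvd_pow hrd)

/-- The conjugacy classes of π-elements. -/
abbrev PiCls (π : Finset ℕ) (G : Type*) [Group G] : Type _ :=
  {c : ConjClasses G // ∀ x ∈ c.carrier, IsPiEl π x}

/-- The class of a π-element. -/
def piClass {π : Finset ℕ} (x : G) (h : IsPiEl π x) : PiCls π G :=
  ⟨ConjClasses.mk x, fun _ hy => isPiEl_of_isConj h (ConjClasses.mk_eq_mk_iff_isConj.1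
    (ConjClasses.mem_carrier_iff_mk_eq.1 hy)).symm⟩

theorem piClass_surjective {π : Finset ℕ} (c : PiCls π G) :
    ∃ (x : G) (h : IsPiEl π x), piClass x h = c := by
  obtain ⟨x, hx⟩ := ConjClasses.exists_rep c.1
  refine ⟨x, c.2 x (ConjClasses.mem_carrier_iff_mk_eq.2 hx), Subtype.ext hx⟩

theorem card_pClasses [Finite G] {p : ℕ} (hp : p.Prime) :
    Nat.card {c : ConjClasses G // ∀ x ∈ c.carrier, ∃ k : ℕ, orderOf x = p ^ k} =
      Nat.card (PiCls {p} G) :=
  Nat.card_congr (Equiv.subtypeEquivRight fun c =>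
    forall₂_congr fun x _ => (isPiEl_singleton_iff hp).symm)

section Sylow

variable [Finite G] {p : ℕ} [hp : Fact p.Prime] (P : Sylow p G)

theorem isPiEl_of_mem {x : G} (hx : x ∈ (P : Subgroup G)) : IsPiEl {p} x := by
  rw [isPiEl_singleton_iff hp.out]
  obtain ⟨k, hk⟩ := IsPGroup.iff_orderOf.1 P.2 ⟨x, hx⟩
  exact ⟨k, by rw [← hk, ← Subgroup.orderOf_coe]⟩

/-- The class in `G` of an element of a Sylow subgroup. -/
def sylowClass (x : ↥(P : Subgroup G)) : PiCls {p} G := piClass x.1 (isPiEl_of_mem P x.2)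

theorem sylowClass_surjective : Function.Surjective (sylowClass P) := by
  intro c
  obtain ⟨x, hx, rfl⟩ := piClass_surjective c
  obtain ⟨k, hk⟩ := (isPiEl_singleton_iff hp.out).1 hx
  have hpg : IsPGroup p (Subgroup.zpowers x) := IsPGroup.of_card (by rw [Nat.card_zpowers, hk])
  obtain ⟨Q, hQ⟩ := hpg.exists_le_sylow
  obtain ⟨g, hg⟩ := MulAction.exists_smul_eq G P Q
  have hxQ : x ∈ (g • P : Sylow p G).toSubgroup := hg ▸ hQ (Subgroup.mem_zpowers x)
  rw [Sylow.coe_subgroup_smul, Subgroup.mem_pointwise_smul_iff_inv_smul_mem] at hxQ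
  simp [MulAut.conj_symm_apply] at hxQ
  exact ⟨⟨_, hxQ⟩, Subtype.ext (ConjClasses.mk_eq_mk_iff_isConj.2
    (isConj_iff.2 ⟨g, by group⟩))⟩

theorem card_pClasses_le : Nat.card (PiCls {p} G) ≤ Nat.card ↥(P : Subgroup G) :=
  Nat.card_le_card_of_surjective _ (sylowClass_surjective P)

/-- `2 k_p ≤ |P| + |Z(P)|` for any prime. -/
theorem two_mul_card_pClasses_le :
    2 * Nat.card (PiCls {p} G) ≤
      Nat.card ↥(P : Subgroup G) + Nat.card ↥(Subgroup.center ↥(P : Subgroup G)) := by
  have h := mul_card_le_of_fibers (sylowClass_surjective P)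
    (Subgroup.center ↥(P : Subgroup G) : Set ↥(P : Subgroup G)) (m := 2) ?_
  · simpa using h
  intro a ha
  rw [SetLike.mem_coe, Subgroup.mem_center_iff] at ha
  push Not at ha
  obtain ⟨g, hg⟩ := ha
  have hne : a ≠ g * a * g⁻¹ := fun h => hg (mul_inv_eq_iff_eq_mul.1 h.symm)
  classical
  refine (Finset.card_pair hne).symm.le.trans ?_
  rw [← Nat.card_eq_finsetCard]
  refine Nat.card_le_card_of_injective
    (fun x => (⟨x.1, ?_⟩ : {x // sylowClass P x = sylowClass P a})) fun x y hxy =>
      Subtype.ext (congrArg (fun t => t.1) hxy)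
  obtain ⟨x, hx⟩ := x
  simp only [Finset.mem_insert, Finset.mem_singleton] at hx
  rcases hx with rfl | rfl
  · rfl
  · exact Subtype.ext (ConjClasses.mk_eq_mk_iff_isConj.2
      (IsConj.symm (isConj_iff.2 ⟨g, by simp⟩)))

theorem prime_mul_card_le {A : Type*} [Group A] [Finite A] (hA : IsPGroup p A) {F : Subgroup A}
    (hF : F ≠ ⊤) : p * Nat.card F ≤ Nat.card A := by
  obtain ⟨k, hk⟩ := hA.index F
  have hk0 : k ≠ 0 := by rintro rfl; exact hF (Subgroup.index_eq_one.1 (by simpa using hk))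
  rw [← F.card_mul_index, hk, mul_comm p]
  exact Nat.mul_le_mul_left _ (Nat.le_self_pow hk0 p)

/-- If `2 p k_p > (p + 1) |P|` then `P` is abelian. -/
theorem sylow_comm_of_lt
    (h : (p + 1) * Nat.card ↥(P : Subgroup G) < 2 * p * Nat.card (PiCls {p} G)) :
    IsMulCommutative ↥(P : Subgroup G) := by
  by_contra hna
  have hZ : Subgroup.center ↥(P : Subgroup G) ≠ ⊤ := fun ht =>
    hna ((commutator_eq_bot_iff _).1 ((commutator_eq_bot_iff_center_eq_top _).2 ht))
  have h1 := prime_mul_card_le P.2 hZ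
  have h2 := Nat.mul_le_mul_left p (two_mul_card_pClasses_le P)
  nlinarith [mul_comm 2 p]

/-- If `2 p k_p > (p + 1) |P|` then `N(P)` centralizes `P`. -/
theorem normalizer_le_centralizer_of_lt
    (h : (p + 1) * Nat.card ↥(P : Subgroup G) < 2 * p * Nat.card (PiCls {p} G)) :
    Subgroup.normalizer ((P : Subgroup G) : Set G) ≤
      Subgroup.centralizer ((P : Subgroup G) : Set G) := by
  intro n hn
  by_contra hnc
  set F := (Subgroup.centralizer ({n} : Set G)).subgroupOf (P : Subgroup G)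
  have hF : F ≠ ⊤ := fun ht => hnc (Subgroup.mem_centralizer_iff.2 fun y hy =>
    Subgroup.mem_centralizer_singleton_iff.1 (Subgroup.subgroupOf_eq_top.1 ht hy))
  have hb := mul_card_le_of_fibers (sylowClass_surjective P) (F : Set ↥(P : Subgroup G)) (m := 2) ?_
  · have h1 := prime_mul_card_le P.2 hF
    have h2 := Nat.mul_le_mul_left p hb
    simp only [SetLike.coe_sort_coe, Nat.add_one_sub_one, one_mul] at h2
    nlinarith [mul_comm 2 p]
  intro a ha
  have hna : n * a.1 * n⁻¹ ∈ (P : Subgroup G) := (Subgroup.mem_normalizer_iff.1 hn a).1 a.2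
  have hne : a ≠ ⟨_, hna⟩ := fun he => ha (Subgroup.mem_centralizer_singleton_iff.2 (by
    have := congrArg Subtype.val he
    exact eq_mul_inv_iff_mul_eq.1 this))
  classical
  refine (Finset.card_pair hne).symm.le.trans ?_
  rw [← Nat.card_eq_finsetCard]
  refine Nat.card_le_card_of_injective
    (fun x => (⟨x.1, ?_⟩ : {x // sylowClass P x = sylowClass P a})) fun x y hxy =>
      Subtype.ext (congrArg (fun t => t.1) hxy)
  obtain ⟨x, hx⟩ := x
  simp only [Finset.mem_insert, Finset.mem_singleton] at hx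
  rcases hx with rfl | rfl
  · rfl
  · exact Subtype.ext (ConjClasses.mk_eq_mk_iff_isConj.2
      (IsConj.symm (isConj_iff.2 ⟨n, by simp⟩)))

/-- The main criterion. -/
theorem hasNormalPComplement_of_lt
    (h : (p + 1) * Nat.card ↥(P : Subgroup G) < 2 * p * Nat.card (PiCls {p} G)) :
    ∃ N : Subgroup G, N.Normal ∧ N.IsComplement' (P : Subgroup G) :=
  ⟨_, inferInstance, MonoidHom.ker_transferSylow_isComplement' P (normalizer_le_centralizer_of_lt P h)⟩

/-- With an abelian normal-complemented Sylow subgroup all `|P|` elements give different classes. -/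
theorem card_pClasses_eq (hab : IsMulCommutative ↥(P : Subgroup G))
    (h : Cfsg.HasNormalPComplement p G) :
    Nat.card (PiCls {p} G) = Nat.card ↥(P : Subgroup G) := by
  obtain ⟨Q, N, hN, hc⟩ := h
  refine le_antisymm (card_pClasses_le P) ?_
  refine Nat.card_le_card_of_injective (sylowClass P) fun a b hab' => ?_
  obtain ⟨g, hg⟩ := isConj_iff.1 (ConjClasses.mk_eq_mk_iff_isConj.1 (congrArg Subtype.val hab'))
  let φ : ↥(P : Subgroup G) →* G ⧸ N := (QuotientGroup.mk' N).comp (P : Subgroup G).subtype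
  have hindex : N.index = Nat.card ↥(P : Subgroup G) := by
    rw [hc.symm.index_eq_card, Sylow.card_eq_multiplicity Q, Sylow.card_eq_multiplicity P]
  have hinj : Function.Injective φ := by
    rw [← MonoidHom.ker_eq_bot_iff, eq_bot_iff]
    intro x hx
    have hxN : (x : G) ∈ N := by
      simpa [φ] using hx
    obtain ⟨k, hk⟩ := IsPGroup.iff_orderOf.1 P.2 x
    have hd : orderOf x ∣ Nat.card N := by
      rw [← Subgroup.orderOf_coe]
      exact (Subgroup.orderOf_mk (G := G) (x : G) hxN) ▸ orderOf_dvd_natCard (⟨(x : G), hxN⟩ : N)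
    rw [Subgroup.mem_bot, ← orderOf_eq_one_iff, hk]
    rcases Nat.eq_zero_or_pos k with rfl | hk0
    · simp
    exfalso
    refine Q.not_dvd_index ?_
    rw [hc.index_eq_card]
    exact ((dvd_pow_self p hk0.ne').trans (hk ▸ dvd_rfl)).trans hd
  have hbij : Function.Bijective φ := (Nat.bijective_iff_injective_and_card φ).2
    ⟨hinj, by rw [← Subgroup.index_eq_card, hindex]⟩
  apply hinj
  obtain ⟨c, hc'⟩ := hbij.2 (g : G ⧸ N)
  have : φ b = φ c * φ a * (φ c)⁻¹ := by
    rw [hc']
    simp [φ, ← hg]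
  rw [this, ← map_inv, ← map_mul, ← map_mul, hab.1.1 c a, mul_assoc, mul_inv_cancel, mul_one]

end Sylow

section Decomposition

variable [Finite G]

theorem prod_pow_factorization_le {π : Finset ℕ} (hπ : ∀ r ∈ π, r.Prime) (H : Subgroup G) :
    π.prod (fun r => r ^ (Nat.card H).factorization r) ≤
      π.prod (fun r => r ^ (Nat.card G).factorization r) :=
  Finset.prod_le_prod' fun r hr => Nat.pow_le_pow_right (hπ r hr).pos
    ((Nat.factorization_le_iff_dvd Nat.card_pos.ne' Nat.card_pos.ne').2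
      (Subgroup.card_subgroup_dvd_card H) r)

/-- The classes of π-elements are covered by pairs (class of an `r`-element, class in its centralizer). -/
theorem card_piClasses_le_mul {π : Finset ℕ} {r : ℕ} (hr : r.Prime) {B : ℕ}
    (hB : ∀ x : G, Nat.card (PiCls (π.erase r) ↥(Subgroup.centralizer ({x} : Set G))) ≤ B) :
    Nat.card (PiCls π G) ≤ Nat.card (PiCls {r} G) * B := by
  classical
  have := Fintype.ofFinite (PiCls {r} G)
  choose rep hrep hrepc using fun c : PiCls {r} G => piClass_surjective c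
  let T : Type _ := Σ c : PiCls {r} G, PiCls (π.erase r) ↥(Subgroup.centralizer ({rep c} : Set G))
  have key : ∀ c : PiCls π G, ∃ t : T, ∃ y : ↥(Subgroup.centralizer ({rep t.1} : Set G)),
      ConjClasses.mk y = t.2.1 ∧ ConjClasses.mk (rep t.1 * (y : G)) = c.1 := by
    intro c
    obtain ⟨g, hg, rfl⟩ := piClass_surjective c
    obtain ⟨a, m, hm, hord⟩ : ∃ a m : ℕ, ¬ r ∣ m ∧ orderOf g = r ^ a * m :=
      ⟨_, _, Nat.not_dvd_ordCompl hr (orderOf_pos g).ne', (Nat.ordProj_mul_ordCompl_eq_self _ r).symm⟩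
    obtain ⟨u, v, huv⟩ : ∃ u v : ℤ, u * ((r ^ a : ℕ) : ℤ) + v * (m : ℤ) = 1 :=
      Nat.isCoprime_iff_coprime.2 (Nat.Coprime.pow_left a ((hr.coprime_iff_not_dvd).2 hm))
    set x := g ^ (v * (m : ℤ))
    set y := g ^ (u * ((r ^ a : ℕ) : ℤ))
    have hxy : x * y = g := by rw [← zpow_add, add_comm, huv, zpow_one]
    have hxr : IsPiEl {r} x := by
      rw [isPiEl_singleton_iff hr]
      obtain ⟨i, _, hi⟩ := (Nat.dvd_prime_pow hr).1 (orderOf_dvd_of_pow_eq_one (n := r ^ a) (x := x) (by
        rw [← zpow_natCast, ← zpow_mul,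
          show v * (m : ℤ) * ((r ^ a : ℕ) : ℤ) = (orderOf g : ℤ) * v by rw [hord]; push_cast; ring,
          zpow_mul, zpow_natCast, pow_orderOf_eq_one, one_zpow]))
      exact ⟨i, hi⟩
    have hym : orderOf y ∣ m := orderOf_dvd_of_pow_eq_one (by
      rw [← zpow_natCast, ← zpow_mul,
        show u * ((r ^ a : ℕ) : ℤ) * (m : ℤ) = (orderOf g : ℤ) * u by rw [hord]; push_cast; ring,
        zpow_mul, zpow_natCast, pow_orderOf_eq_one, one_zpow])
    have hcomm : y * x = x * y := (Commute.zpow_zpow (Commute.refl g) _ _).eq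
    set cx := piClass x hxr
    obtain ⟨k, hk⟩ := isConj_iff.1 (ConjClasses.mk_eq_mk_iff_isConj.1
      (show ConjClasses.mk x = ConjClasses.mk (rep cx) from (congrArg Subtype.val (hrepc cx)).symm))
    have hy' : k * y * k⁻¹ ∈ Subgroup.centralizer ({rep cx} : Set G) := by
      rw [Subgroup.mem_centralizer_singleton_iff, ← hk]
      calc k * y * k⁻¹ * (k * x * k⁻¹) = k * (y * x) * k⁻¹ := by group
        _ = k * (x * y) * k⁻¹ := by rw [hcomm]
        _ = k * x * k⁻¹ * (k * y * k⁻¹) := by group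
    have hpi : IsPiEl (π.erase r) (⟨_, hy'⟩ : ↥(Subgroup.centralizer ({rep cx} : Set G))) := by
      intro s hs hsd
      rw [Subgroup.orderOf_mk] at hsd
      replace hsd : s ∣ orderOf y :=
        orderOf_injective (MulAut.conj k).toMonoidHom (MulAut.conj k).injective y ▸ hsd
      refine Finset.mem_erase.2 ⟨?_, hg s hs ?_⟩
      · rintro rfl
        exact hm (hsd.trans hym)
      · rw [hord]; exact (hsd.trans hym).mul_left _
    refine ⟨⟨cx, piClass _ hpi⟩, ⟨_, hy'⟩, rfl, ?_⟩
    refine ConjClasses.mk_eq_mk_iff_isConj.2 (IsConj.symm (isConj_iff.2 ⟨k, ?_⟩))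
    change k * g * k⁻¹ = rep cx * (k * y * k⁻¹)
    rw [← hk, ← hxy]; group
  choose φ hφ using key
  have hinj : Function.Injective φ := by
    intro c d hcd
    obtain ⟨y, hy, hyc⟩ := hφ c
    obtain ⟨z, hz, hzd⟩ := hφ d
    revert y z
    rw [hcd]
    intro y hy hyc z hz hzd
    apply Subtype.ext
    rw [← hyc, ← hzd]
    obtain ⟨k, hk⟩ := isConj_iff.1 (ConjClasses.mk_eq_mk_iff_isConj.1 (hy.trans hz.symm))
    refine ConjClasses.mk_eq_mk_iff_isConj.2 (isConj_iff.2 ⟨k, ?_⟩)
    have hk' := Subgroup.mem_centralizer_singleton_iff.1 k.2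
    rw [← hk]
    push_cast
    calc (k : G) * (rep (φ d).1 * y) * (k : G)⁻¹ = ((k : G) * rep (φ d).1) * (y * (k : G)⁻¹) := by group
      _ = rep (φ d).1 * ((k : G) * y * (k : G)⁻¹) := by rw [hk']; group
  refine (Nat.card_le_card_of_injective φ hinj).trans ?_
  rw [Nat.card_sigma, Nat.card_eq_fintype_card, ← Finset.card_univ, ← smul_eq_mul]
  exact Finset.sum_le_card_nsmul _ _ _ fun c _ => hB _

universe u in
theorem card_piClasses_le : ∀ (π : Finset ℕ), (∀ r ∈ π, r.Prime) →
    ∀ (G : Type u) [Group G] [Finite G],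
    Nat.card (PiCls π G) ≤ π.prod (fun r => r ^ (Nat.card G).factorization r) := by
  intro π
  induction π using Finset.strongInduction with
  | _ π ih =>
    intro hπ G _ _
    rcases π.eq_empty_or_nonempty with rfl | ⟨r, hr⟩
    · rw [Finset.prod_empty]
      have : Subsingleton (PiCls (∅ : Finset ℕ) G) := by
        constructor
        intro c d
        obtain ⟨x, hx, rfl⟩ := piClass_surjective c
        obtain ⟨y, hy, rfl⟩ := piClass_surjective d
        have h1 : ∀ z : G, IsPiEl (∅ : Finset ℕ) z → z = 1 := fun z hz => orderOf_eq_one_iff.1 (by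
          by_contra hne
          obtain ⟨s, hs, hsd⟩ := Nat.exists_prime_and_dvd hne
          exact absurd (hz s hs hsd) (Finset.notMem_empty s))
        exact Subtype.ext (by change ConjClasses.mk x = ConjClasses.mk y; rw [h1 x hx, h1 y hy])
      exact Finite.card_le_one_iff_subsingleton.2 this
    have := Fact.mk (hπ r hr)
    obtain ⟨P⟩ := (inferInstance : Nonempty (Sylow r G))
    refine (card_piClasses_le_mul (B := (π.erase r).prod fun s => s ^ (Nat.card G).factorization s)
      (hπ r hr) fun x => ?_).trans ?_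
    · exact (ih _ (Finset.erase_ssubset hr) (fun s hs => hπ s (Finset.mem_of_mem_erase hs)) _).trans
        (prod_pow_factorization_le (fun s hs => hπ s (Finset.mem_of_mem_erase hs)) _)
    · rw [← Finset.mul_prod_erase π _ hr]
      exact Nat.mul_le_mul_right _ ((card_pClasses_le P).trans (Sylow.card_eq_multiplicity P).le)

end Decomposition

end Cfsg.Agent.Lib.PiClasses
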