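import Cfsg.Agent.Lib.PiClasses.Count

/-!
# Classes of elements of odd prime power order under a nontrivial odd action

If a Sylow `r`-subgroup `P`, `r` odd, is nonabelian, or is moved by an element of its normalizer of
odd order prime to `r`, then there are at most `|P| / 2` classes of `r`-elements.
-/

set_option autoImplicit false

namespace Cfsg.Agent.Lib.PiClasses

variable {G : Type*} [Group G] [Finite G] {p : ℕ} [hp : Fact p.Prime] (P : Sylow p G)

/-- An element of odd order which commutes with `x` as a square commutes with `x`. -/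
theorem commute_of_commute_sq {g x : G} (hg : Odd (orderOf g)) (h : Commute (g ^ 2) x) :
    Commute g x := by
  obtain ⟨k, hk⟩ := exists_pow_eq_self_of_coprime (Nat.coprime_two_left.2 hg)
  rw [← hk]
  exact h.pow_left k

/-- An element moved by a normalizing element of odd order lies in a fibre of size at least three. -/
theorem three_le_card_fiber {g : G} (hg : g ∈ Subgroup.normalizer ((P : Subgroup G) : Set G))
    (hgo : Odd (orderOf g)) {a : ↥(P : Subgroup G)} (ha : ¬ Commute g (a : G)) :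
    3 ≤ Nat.card {x // sylowClass P x = sylowClass P a} := by
  have hgg : g * g ∈ Subgroup.normalizer ((P : Subgroup G) : Set G) := mul_mem hg hg
  have hy := (Subgroup.mem_normalizer_iff.1 hg (a : G)).1 a.2
  have hz := (Subgroup.mem_normalizer_iff.1 hgg (a : G)).1 a.2
  have hxy : (a : G) ≠ g * a * g⁻¹ := fun e => ha (eq_mul_inv_iff_mul_eq.1 e).symm
  have hyz : g * a * g⁻¹ ≠ g * g * a * (g * g)⁻¹ := by
    rw [show g * g * (a : G) * (g * g)⁻¹ = g * (g * a * g⁻¹) * g⁻¹ by group]
    exact fun e => hxy (mul_left_cancel (mul_right_cancel e))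
  have hxz : (a : G) ≠ g * g * a * (g * g)⁻¹ := fun e => ha (commute_of_commute_sq hgo
    (by rw [pow_two]; exact (eq_mul_inv_iff_mul_eq.1 e).symm))
  let e : Fin 3 → {x // sylowClass P x = sylowClass P a} := ![⟨a, rfl⟩,
    ⟨⟨_, hy⟩, Subtype.ext (ConjClasses.mk_eq_mk_iff_isConj.2
      (IsConj.symm (isConj_iff.2 ⟨g, rfl⟩)))⟩,
    ⟨⟨_, hz⟩, Subtype.ext (ConjClasses.mk_eq_mk_iff_isConj.2
      (IsConj.symm (isConj_iff.2 ⟨g * g, rfl⟩)))⟩]
  have he : Function.Injective e := by
    intro i j hij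
    have := congrArg (fun z => ((z.1 : ↥(P : Subgroup G)) : G)) hij
    fin_cases i <;> fin_cases j <;> first
      | rfl
      | exact absurd this hxy | exact absurd this.symm hxy | exact absurd this hyz
      | exact absurd this.symm hyz | exact absurd this hxz | exact absurd this.symm hxz
  simpa using Nat.card_le_card_of_injective e he

/-- A fixed-point subgroup of index at least four gives at most `|P| / 2` classes. -/
theorem two_mul_card_pClasses_le_of_fix (F : Subgroup ↥(P : Subgroup G))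
    (h4 : 4 * Nat.card F ≤ Nat.card ↥(P : Subgroup G))
    (hF : ∀ a : ↥(P : Subgroup G), a ∉ F →
      ∃ g ∈ Subgroup.normalizer ((P : Subgroup G) : Set G), Odd (orderOf g) ∧ ¬ Commute g (a : G)) :
    2 * Nat.card (PiCls {p} G) ≤ Nat.card ↥(P : Subgroup G) := by
  have h := mul_card_le_of_fibers (sylowClass_surjective P) (F : Set ↥(P : Subgroup G)) (m := 3) ?_
  · simp only [SetLike.coe_sort_coe] at h
    omega
  intro a ha
  obtain ⟨g, hg, hgo, hga⟩ := hF a ha
  exact three_le_card_fiber P hg hgo hga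

/-- A proper subgroup of a `p`-group, `p` odd, has index `3` or index at least four. -/
theorem four_mul_card_le (hp2 : p ≠ 2) {F : Subgroup ↥(P : Subgroup G)} (hF : F ≠ ⊤)
    (h3 : F.index ≠ 3) : 4 * Nat.card F ≤ Nat.card ↥(P : Subgroup G) := by
  obtain ⟨k, hk⟩ := P.2.index F
  have hk0 : k ≠ 0 := by rintro rfl; exact hF (Subgroup.index_eq_one.1 (by simpa using hk))
  have h1 : p ≤ F.index := hk ▸ Nat.le_self_pow hk0 p
  have h2 := hp.out.two_le
  rw [← F.card_mul_index, mul_comm _ F.index]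
  exact Nat.mul_le_mul_right _ (by omega)

theorem odd_orderOf_of_mem (hp2 : p ≠ 2) {g : G} (hg : g ∈ (P : Subgroup G)) :
    Odd (orderOf g) := by
  obtain ⟨k, hk⟩ := IsPGroup.iff_orderOf.1 P.2 ⟨g, hg⟩
  rw [Subgroup.orderOf_mk] at hk
  exact hk ▸ (hp.out.odd_of_ne_two hp2).pow

/-- A nonabelian Sylow `p`-subgroup, `p` odd, has at most `|P| / 2` classes. -/
theorem two_mul_card_pClasses_le_of_nonabelian (hp2 : p ≠ 2)
    (hna : ¬ IsMulCommutative ↥(P : Subgroup G)) :
    2 * Nat.card (PiCls {p} G) ≤ Nat.card ↥(P : Subgroup G) := by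
  have hZ : Subgroup.center ↥(P : Subgroup G) ≠ ⊤ := fun ht =>
    hna ((commutator_eq_bot_iff _).1 ((commutator_eq_bot_iff_center_eq_top _).2 ht))
  refine two_mul_card_pClasses_le_of_fix P (Subgroup.center _) (four_mul_card_le P hp2 hZ fun h3 => ?_)
    fun a ha => ?_
  · haveI : Fact (Nat.Prime 3) := ⟨Nat.prime_three⟩
    haveI : IsCyclic (↥(P : Subgroup G) ⧸ Subgroup.center ↥(P : Subgroup G)) :=
      isCyclic_of_prime_card (p := 3) (by rw [← Subgroup.index_eq_card]; exact h3)
    exact hna ⟨⟨commutative_of_cyclic_center_quotient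
      (QuotientGroup.mk' (Subgroup.center ↥(P : Subgroup G))) (by simp)⟩⟩
  · rw [Subgroup.mem_center_iff] at ha
    push Not at ha
    obtain ⟨g, hg⟩ := ha
    exact ⟨g, Subgroup.le_normalizer g.2, odd_orderOf_of_mem P hp2 g.2,
      fun h => hg (Subtype.ext h)⟩

/-- A normalizing element of odd order prime to `p`, `p` odd, centralizes `P` unless there are at most
`|P| / 2` classes. -/
theorem two_mul_card_pClasses_le_of_not_centralizing (hp2 : p ≠ 2) {n : G}
    (hn : n ∈ Subgroup.normalizer ((P : Subgroup G) : Set G)) (hno : Odd (orderOf n))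
    (hnp : ¬ p ∣ orderOf n) (hnc : n ∉ Subgroup.centralizer ((P : Subgroup G) : Set G)) :
    2 * Nat.card (PiCls {p} G) ≤ Nat.card ↥(P : Subgroup G) := by
  set F := (Subgroup.centralizer ({n} : Set G)).subgroupOf (P : Subgroup G) with hFdef
  have hmem : ∀ a : ↥(P : Subgroup G), a ∈ F ↔ Commute n (a : G) := fun a => by
    rw [hFdef, Subgroup.mem_subgroupOf, Subgroup.mem_centralizer_singleton_iff]
    exact ⟨fun h => h.symm, fun h => h.symm⟩
  have hF : F ≠ ⊤ := fun ht => hnc (Subgroup.mem_centralizer_iff.2 fun y hy => by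
    have := (hmem ⟨y, hy⟩).1 (by rw [ht]; exact Subgroup.mem_top _)
    exact this.symm)
  refine two_mul_card_pClasses_le_of_fix P F (four_mul_card_le P hp2 hF fun h3 => ?_)
    fun a ha => ⟨n, hn, hno, fun h => ha ((hmem a).2 h)⟩
  obtain ⟨k, hk⟩ := P.2.index F
  have hp3 : p = 3 := by
    have : p ∣ 3 := h3 ▸ hk ▸ dvd_pow_self p (by rintro rfl; simp [h3] at hk)
    exact (Nat.prime_dvd_prime_iff_eq hp.out Nat.prime_three).1 this
  have hmin : (Nat.card ↥(P : Subgroup G)).minFac = 3 := by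
    obtain ⟨e, he⟩ := P.2.exists_card_eq
    have he0 : e ≠ 0 := by
      rintro rfl
      have := F.index_dvd_card
      simp [h3, he] at this
    rw [he, Nat.pow_minFac he0, hp.out.minFac_eq, hp3]
  haveI : F.Normal := Subgroup.normal_of_index_eq_minFac_card (by rw [h3, hmin])
  haveI : Fact (Nat.Prime 3) := ⟨Nat.prime_three⟩
  obtain ⟨a, ha⟩ : ∃ a, a ∉ F := by
    by_contra h
    push Not at h
    exact hF (eq_top_iff.2 fun x _ => h x)
  apply ha
  rw [hmem]
  apply commute_of_commute_sq hno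
  -- conjugation by `n` on `P`
  let φ : ↥(P : Subgroup G) → ↥(P : Subgroup G) := fun x =>
    ⟨n * x * n⁻¹, (Subgroup.mem_normalizer_iff.1 hn (x : G)).1 x.2⟩
  have hφF : ∀ x ∈ F, φ x = x := fun x hx => Subtype.ext (by
    change n * x * n⁻¹ = (x : G)
    rw [((hmem x).1 hx).eq, mul_inv_cancel_right])
  have hφm : ∀ x y, φ (x * y) = φ x * φ y := fun x y => Subtype.ext (by
    simp only [φ, Subgroup.coe_mul]; group)
  have hφi : ∀ x, φ x⁻¹ = (φ x)⁻¹ := fun x => Subtype.ext (by
    simp only [φ, Subgroup.coe_inv]; group)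
  have hφout : φ a ∉ F := fun h => ha (by
    rw [hmem]
    have h' : n * (a : G) * n⁻¹ * n = n * (n * a * n⁻¹) := ((hmem _).1 h).eq.symm
    exact (mul_left_cancel (show n * (n * (a : G)) = n * ((a : G) * n) by
      calc n * (n * (a : G)) = n * (n * a * n⁻¹) * n := by group
        _ = n * a * n⁻¹ * n * n := by rw [← h']
        _ = n * ((a : G) * n) := by group)))
  -- modulo `F`, the square of `n` fixes `a`
  have hcls : a⁻¹ * φ (φ a) ∈ F := by
    have hcard : Nat.card (↥(P : Subgroup G) ⧸ F) = 3 := by rw [← Subgroup.index_eq_card, h3]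
    have ha' : (a : ↥(P : Subgroup G) ⧸ F) ≠ 1 := fun h => ha ((QuotientGroup.eq_one_iff a).1 h)
    obtain ⟨i, hi⟩ : ∃ i : ℕ, (a : ↥(P : Subgroup G) ⧸ F) ^ i = (φ a : ↥(P : Subgroup G)) :=
      mem_powers_of_prime_card hcard ha'
    have h3a : (a : ↥(P : Subgroup G) ⧸ F) ^ 3 = 1 := hcard ▸ pow_card_eq_one'
    rw [pow_eq_pow_mod i h3a] at hi
    have hj : i % 3 < 3 := Nat.mod_lt _ (by norm_num)
    interval_cases hj' : i % 3
    · exact absurd ((QuotientGroup.eq_one_iff _).1 (by rw [← hi, pow_zero])) hφout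
    · -- `φ a ≡ a`
      have hf : a⁻¹ * φ a ∈ F := QuotientGroup.eq.1 (by rw [← hi, pow_one])
      have := hφF _ hf
      rw [hφm, hφi] at this
      have h2 : φ (φ a) = φ a * (a⁻¹ * φ a) := by rw [← this]; group
      rw [h2, ← mul_assoc]
      exact mul_mem hf hf
    · -- `φ a ≡ a⁻¹`
      have hf : φ a * a ∈ F := (QuotientGroup.eq_one_iff _).1 (by
        rw [QuotientGroup.mk_mul, ← hi, ← pow_succ, h3a])
      have := hφF _ hf
      rw [hφm] at this
      have h2 : φ (φ a) = φ a * a * (φ a)⁻¹ := by rw [← this]; group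
      have h4 : a⁻¹ * φ (φ a) = a⁻¹ * (φ a * a) * a * (φ a * a)⁻¹ := by rw [h2]; group
      rw [h4, show a⁻¹ * (φ a * a) * a * (φ a * a)⁻¹ = a⁻¹ * (φ a * a) * a⁻¹⁻¹ * (φ a * a)⁻¹ by
        rw [inv_inv]]
      exact mul_mem (Subgroup.Normal.conj_mem inferInstance _ hf _) (inv_mem hf)
  -- the difference is fixed by `n`, has 3-power order, and has order dividing that of `n`
  set c := a⁻¹ * φ (φ a) with hc
  have hcn : Commute (n ^ 2) (c : G) := ((hmem c).1 hcls).pow_left 2
  have hac : n ^ 2 * (a : G) * (n ^ 2)⁻¹ = a * c := by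
    simp only [hc, φ, Subgroup.coe_mul, Subgroup.coe_inv, pow_two]; group
  have hiter : ∀ i : ℕ, (n ^ 2) ^ i * (a : G) * ((n ^ 2) ^ i)⁻¹ = a * (c : G) ^ i := by
    intro i
    induction i with
    | zero => simp
    | succ i ih =>
      calc (n ^ 2) ^ (i + 1) * (a : G) * ((n ^ 2) ^ (i + 1))⁻¹
          = n ^ 2 * ((n ^ 2) ^ i * a * ((n ^ 2) ^ i)⁻¹) * (n ^ 2)⁻¹ := by
            rw [pow_succ' (n ^ 2)]; group
        _ = n ^ 2 * a * (n ^ 2)⁻¹ * (n ^ 2 * (c : G) ^ i * (n ^ 2)⁻¹) := by rw [ih]; group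
        _ = a * c * (c : G) ^ i := by rw [hac, (hcn.pow_right i).eq, mul_inv_cancel_right]
        _ = a * (c : G) ^ (i + 1) := by rw [pow_succ', mul_assoc]
  have hone := hiter (orderOf n)
  rw [← pow_mul, mul_comm 2, pow_mul, pow_orderOf_eq_one, one_pow, one_mul, inv_one, mul_one,
    left_eq_mul] at hone
  obtain ⟨i, hi⟩ := IsPGroup.iff_orderOf.1 P.2 c
  have hc1 : orderOf (c : G) = 1 := by
    refine Nat.eq_one_of_dvd_coprimes ((hp.out.coprime_iff_not_dvd.2 hnp).pow_left i) ?_
      (orderOf_dvd_of_pow_eq_one hone)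
    rw [Subgroup.orderOf_coe, hi]
  rw [orderOf_eq_one_iff] at hc1
  rw [hc1, mul_one] at hac
  exact mul_inv_eq_iff_eq_mul.1 hac

end Cfsg.Agent.Lib.PiClasses
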