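import Cfsg.Agent.Lib.PiClasses.Count
import Cfsg.Agent.Lib.Transfer.Frobenius

/-!
# Classes of 2-elements

A group with more than `|P| / 2` classes of 2-elements, `P` a Sylow 2-subgroup, has a normal 2-complement.
-/

set_option autoImplicit false

namespace Cfsg.Agent.Lib.PiClasses

/-- If every fibre meeting `M` has at least three points of `M` and there are at most `|M| / 3` singleton
fibres, then there are at most `|A| / 2` fibres. -/
theorem two_mul_card_le_of_fibers {A B : Type*} [Finite A] {f : A → B} (hf : Function.Surjective f)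
    (L M : Set A) (hL : ∀ a, (∀ b, f b = f a → b = a) → a ∈ L)
    (hM : ∀ a ∈ M, 3 ≤ Nat.card {x : A // x ∈ M ∧ f x = f a})
    (hLM : 3 * Nat.card L ≤ Nat.card M) : 2 * Nat.card B ≤ Nat.card A := by
  classical
  have := Fintype.ofFinite A
  have : Finite B := Finite.of_surjective f hf
  have := Fintype.ofFinite B
  set l := L.toFinset with hl
  set m := M.toFinset with hm
  have e : ∀ s : Finset A, s.card = ∑ b : B, (s.filter fun a => f a = b).card := fun s =>
    Finset.card_eq_sum_card_fiberwise (fun _ _ => Finset.mem_univ _)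
  have key : ∀ b : B, 6 + (m.filter fun a => f a = b).card ≤
      3 * (Finset.univ.filter fun a => f a = b).card + 3 * (l.filter fun a => f a = b).card := by
    intro b
    obtain ⟨a, rfl⟩ := hf b
    have h1 : 1 ≤ (Finset.univ.filter fun y => f y = f a).card := Finset.card_pos.2 ⟨a, by simp⟩
    have h2 : (m.filter fun y => f y = f a).card ≤ (Finset.univ.filter fun y => f y = f a).card :=
      Finset.card_le_card (Finset.filter_subset_filter _ (Finset.subset_univ _))
    rcases (m.filter fun y => f y = f a).eq_empty_or_nonempty with h0 | ⟨x, hx⟩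
    · rw [h0, Finset.card_empty]
      by_cases hs : ∀ b, f b = f a → b = a
      · have : 1 ≤ (l.filter fun y => f y = f a).card := Finset.card_pos.2 ⟨a, by simp [hl, hL a hs]⟩
        omega
      · push Not at hs
        obtain ⟨c, hc, hca⟩ := hs
        have : 1 < (Finset.univ.filter fun y => f y = f a).card :=
          Finset.one_lt_card.2 ⟨c, by simp [hc], a, by simp, hca⟩
        omega
    · simp only [hm, Finset.mem_filter, Set.mem_toFinset] at hx
      have h3 := hM x hx.1
      rw [hx.2, Nat.card_eq_fintype_card, Fintype.card_subtype] at h3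
      have h4 : (Finset.univ.filter fun y => y ∈ M ∧ f y = f a) = m.filter fun y => f y = f a := by
        ext y; simp [hm]
      rw [h4] at h3
      omega
  have hsum := Finset.sum_le_sum (s := (Finset.univ : Finset B)) fun b _ => key b
  rw [Finset.sum_add_distrib, Finset.sum_add_distrib, ← Finset.mul_sum, ← Finset.mul_sum, ← e, ← e, ← e,
    Finset.sum_const, smul_eq_mul] at hsum
  rw [Nat.card_eq_fintype_card, Nat.card_eq_fintype_card, hl, hm, Set.toFinset_card, Set.toFinset_card,
    Finset.card_univ, Finset.card_univ] at *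
  omega

variable {G : Type*} [Group G] [Finite G]

/-- An element of odd order is a power of the `2 ^ k`-th power of itself. -/
theorem mem_zpowers_pow {a : G} (ha : Odd (orderOf a)) (k : ℕ) : a ∈ Subgroup.zpowers (a ^ 2 ^ k) := by
  obtain ⟨m, hm⟩ := exists_pow_eq_self_of_coprime
    ((Nat.coprime_two_left.2 ha).pow_left k : (2 ^ k).Coprime (orderOf a))
  exact ⟨m, by simpa using hm⟩

/-- Without a normal 2-complement there are at most `|P| / 2` classes of 2-elements. -/
theorem two_mul_card_pClasses_le_card (P : Sylow 2 G) (h : ¬ Cfsg.HasNormalPComplement 2 G) :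
    2 * Nat.card (PiCls {2} G) ≤ Nat.card ↥(P : Subgroup G) := by
  haveI : Fact (Nat.Prime 2) := ⟨Nat.prime_two⟩
  obtain ⟨Q, hQ, g, hg, hgo, hgc⟩ : ∃ Q : Subgroup G, IsPGroup 2 Q ∧
      ∃ g ∈ Subgroup.normalizer (Q : Set G), (orderOf g).Coprime 2 ∧ g ∉ Subgroup.centralizer (Q : Set G) := by
    by_contra hno
    push Not at hno
    exact h (Transfer.Frobenius.hasNormalPComplement_of_forall_centralizes fun Q hQ _ g hg hgo => hno Q hQ g hg hgo)
  set N := Subgroup.normalizer (Q : Set G) with hN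
  set C := Subgroup.centralizer (Q : Set G) with hC
  have hCN : C ≤ N := by
    intro c hc y
    have hcy : ∀ y ∈ Q, c * y * c⁻¹ = y := fun y hy => by
      rw [← Subgroup.mem_centralizer_iff.1 hc y hy, mul_inv_cancel_right]
    refine ⟨fun hy => by rw [hcy y hy]; exact hy, fun hy => ?_⟩
    have h1 : c⁻¹ ∈ C := inv_mem hc
    have h2 := Subgroup.mem_centralizer_iff.1 h1 _ hy
    have h3 : y = c * y * c⁻¹ := by
      calc y = c⁻¹ * (c * y * c⁻¹) * c := by group
        _ = c * y * c⁻¹ := by rw [← h2]; group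
    rw [h3]; exact hy
  -- a Sylow subgroup of the centraliser, and the Frattini argument
  haveI : (C.subgroupOf N).Normal := ⟨fun c hc n => by
    rw [Subgroup.mem_subgroupOf] at hc ⊢
    rw [hC, Subgroup.mem_centralizer_iff]
    intro y hy
    have h1 := Subgroup.mem_centralizer_iff.1 hc ((n : G)⁻¹ * y * n) (by
      simpa using ((inv_mem n.2 : (n : G)⁻¹ ∈ N) y).1 hy)
    calc y * ((n * c * n⁻¹ : N) : G) = (n : G) * (((n : G)⁻¹ * y * n) * c) * (n : G)⁻¹ := by
          simp only [Subgroup.coe_mul, Subgroup.coe_inv]; group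
      _ = ((n * c * n⁻¹ : N) : G) * y := by
          rw [h1]; simp only [Subgroup.coe_mul, Subgroup.coe_inv]; group⟩
  let R₀ : Sylow 2 (C.subgroupOf N) := default
  obtain ⟨n, hn, c, hc, hnc⟩ : ∃ n ∈ Subgroup.normalizer (((R₀ : Subgroup (C.subgroupOf N)).map
      (C.subgroupOf N).subtype : Subgroup N) : Set N), ∃ c ∈ C.subgroupOf N, n * c = ⟨g, hg⟩ := by
    have htop := Sylow.normalizer_sup_eq_top R₀
    have hmem : (⟨g, hg⟩ : N) ∈ Subgroup.normalizer (((R₀ : Subgroup (C.subgroupOf N)).map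
      (C.subgroupOf N).subtype : Subgroup N) : Set N) ⊔ C.subgroupOf N := htop ▸ Subgroup.mem_top _
    rw [← SetLike.mem_coe, Subgroup.mul_normal] at hmem
    exact hmem
  set R : Subgroup G := ((R₀ : Subgroup (C.subgroupOf N)).map (C.subgroupOf N).subtype).map N.subtype with hR
  have hRC : R ≤ C := by
    rintro _ ⟨_, ⟨r, -, rfl⟩, rfl⟩
    exact Subgroup.mem_subgroupOf.1 r.2
  have hRp : IsPGroup 2 R := (R₀.2.map _).map _
  -- the odd part of `n`
  obtain ⟨k, m, hm, hkm⟩ := Nat.exists_eq_pow_mul_and_not_dvd (orderOf_pos (n : G)).ne' 2 (by norm_num)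
  set a : G := (n : G) ^ 2 ^ k with ha
  have hao : Odd (orderOf a) := by
    rw [ha, orderOf_pow_of_dvd (by positivity) (hkm ▸ dvd_mul_right _ _), hkm,
      Nat.mul_div_cancel_left _ (by positivity)]
    exact Nat.odd_iff.2 (Nat.two_dvd_ne_zero.1 hm)
  have haN : a ∈ N := pow_mem n.2 _
  have haR : ∀ r ∈ R, a * r * a⁻¹ ∈ R := by
    rintro _ ⟨r, hr, rfl⟩
    exact ⟨n ^ 2 ^ k * r * (n ^ 2 ^ k)⁻¹, ((pow_mem hn _) r).1 hr, by simp [a]⟩
  have haQ : a ∉ C := by
    intro haC
    have hgN : (⟨g, hg⟩ : N) ^ 2 ^ k ∈ C.subgroupOf N := by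
      rw [← hnc, ← QuotientGroup.eq_one_iff, QuotientGroup.mk_pow, QuotientGroup.mk_mul,
        (QuotientGroup.eq_one_iff c).2 hc, mul_one, ← QuotientGroup.mk_pow, QuotientGroup.eq_one_iff]
      exact Subgroup.mem_subgroupOf.2 (by simpa [a] using haC)
    exact hgc (Subgroup.zpowers_le.2 (by simpa using Subgroup.mem_subgroupOf.1 hgN : g ^ 2 ^ k ∈ C)
      (mem_zpowers_pow (Nat.coprime_two_right.1 hgo) k))
  -- `V = Q R`
  set V := Q ⊔ R with hV
  have hVp : IsPGroup 2 V :=
    IsPGroup.to_sup_of_normal_left' hQ hRp (fun r hr => hCN (hRC hr))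
  obtain ⟨T, hVT⟩ := hVp.exists_le_sylow
  have hTC : ∀ x ∈ (T : Subgroup G), x ∈ C → x ∈ R := by
    intro x hx hxC
    have hxN : x ∈ N := hCN hxC
    let W : Subgroup (C.subgroupOf N) := (T : Subgroup G).comap (N.subtype.comp (C.subgroupOf N).subtype)
    have hWp : IsPGroup 2 W := T.2.comap_of_injective _
      (N.subtype_injective.comp (C.subgroupOf N).subtype_injective)
    have hle : (R₀ : Subgroup (C.subgroupOf N)) ≤ W := fun r hr =>
      hVT (Subgroup.mem_sup_right ⟨_, ⟨r, hr, rfl⟩, rfl⟩)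
    have := R₀.3 hWp hle
    exact ⟨_, ⟨⟨⟨x, hxN⟩, Subgroup.mem_subgroupOf.2 hxC⟩, this.le hx, rfl⟩, rfl⟩
  have haV : ∀ v ∈ V, a * v * a⁻¹ ∈ V := by
    intro v hv
    have : V ≤ V.comap (MulAut.conj a).toMonoidHom := sup_le
      (fun q hq => Subgroup.mem_sup_left ((haN q).1 hq)) (fun r hr => Subgroup.mem_sup_right (haR r hr))
    exact this hv
  have hcard : Nat.card ↥(P : Subgroup G) = Nat.card ↥(T : Subgroup G) := by
    rw [P.card_eq_multiplicity, T.card_eq_multiplicity]
  rw [hcard]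
  -- the fixed points of `a` in `V`
  set F := V ⊓ Subgroup.centralizer ({a} : Set G) with hF
  have hFV : F < V := lt_of_le_of_ne inf_le_left fun he => haQ (Subgroup.mem_centralizer_iff.2 fun q hq =>
    (Subgroup.mem_centralizer_singleton_iff.1 ((he.ge (Subgroup.mem_sup_left hq)).2)))
  have hfix : ∀ x ∈ F, a * x * a⁻¹ = x := fun x hx => by
    rw [← Subgroup.mem_centralizer_singleton_iff.1 hx.2, mul_inv_cancel_right]
  have hfix' : ∀ x ∈ V, a * x * a⁻¹ = x → x ∈ F := fun x hx he =>
    ⟨hx, Subgroup.mem_centralizer_singleton_iff.2 (mul_inv_eq_iff_eq_mul.1 he).symm⟩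
  haveI : Finite V := inferInstance
  have hindex : 4 * Nat.card F ≤ Nat.card V := by
    obtain ⟨j, hj⟩ := hVp.index (F.subgroupOf V)
    have hcm := (F.subgroupOf V).card_mul_index
    rw [Nat.card_congr (Subgroup.subgroupOfEquivOfLe hFV.le).toEquiv, hj] at hcm
    match j, hj, hcm with
    | 0, hj, _ => exact absurd (Subgroup.subgroupOf_eq_top.1 (Subgroup.index_eq_one.1 hj)) hFV.not_ge
    | 1, hj, _ =>
      exfalso
      obtain ⟨u, hu, huF⟩ := SetLike.exists_of_lt hFV
      have hua : a * u * a⁻¹ ∉ F := fun hh => huF <| by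
        have e : a * (a * u * a⁻¹) * a⁻¹ = a * u * a⁻¹ := hfix _ hh
        have e' : a * u * a⁻¹ = u := mul_left_cancel (mul_right_cancel e)
        exact hfix' u hu e'
      have hmul := Subgroup.mul_mem_iff_of_index_two (H := F.subgroupOf V) (by simpa using hj)
        (a := ⟨u⁻¹, V.inv_mem hu⟩) (b := ⟨a * u * a⁻¹, haV u hu⟩)
      have hc : u⁻¹ * (a * u * a⁻¹) ∈ F :=
        Subgroup.mem_subgroupOf.1 (hmul.2 (by simp [Subgroup.mem_subgroupOf, huF, hua]))
      set c := u⁻¹ * (a * u * a⁻¹) with hcdef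
      have hiter : ∀ i : ℕ, a ^ i * u * (a ^ i)⁻¹ = u * c ^ i := by
        intro i
        induction i with
        | zero => simp
        | succ i ih =>
          calc a ^ (i + 1) * u * (a ^ (i + 1))⁻¹ = a * (a ^ i * u * (a ^ i)⁻¹) * a⁻¹ := by
                rw [pow_succ']; group
            _ = (a * u * a⁻¹) * (a * c ^ i * a⁻¹) := by rw [ih]; group
            _ = u * c * c ^ i := by
                rw [hfix _ (pow_mem hc i), hcdef]; group
            _ = u * c ^ (i + 1) := by rw [pow_succ', mul_assoc]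
      have hcm1 := hiter (orderOf a)
      rw [pow_orderOf_eq_one, one_mul, inv_one, mul_one, left_eq_mul] at hcm1
      obtain ⟨i, hi⟩ := hVp ⟨c, hc.1⟩
      have hi' : c ^ 2 ^ i = 1 := congrArg Subtype.val hi
      have hc1 : orderOf c = 1 := Nat.eq_one_of_dvd_coprimes
        ((Nat.coprime_two_left.2 hao).pow_left i) (orderOf_dvd_of_pow_eq_one hi')
        (orderOf_dvd_of_pow_eq_one hcm1)
      rw [orderOf_eq_one_iff, hcdef, inv_mul_eq_one] at hc1
      exact huF (hfix' u hu hc1.symm)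
    | j + 2, _, hcm =>
      rw [← hcm, pow_add, show 2 ^ 2 = 4 from rfl, mul_comm 4]
      exact Nat.mul_le_mul_left _ (Nat.le_mul_of_pos_left _ (by positivity))
  refine two_mul_card_le_of_fibers (sylowClass_surjective T) {x | (x : G) ∈ F} {x | (x : G) ∈ V ∧ (x : G) ∉ F}
    ?_ ?_ ?_
  · intro x hx
    -- a lonely element is central in `T`, so lies in `V`
    have hcen : ∀ t ∈ (T : Subgroup G), t * x * t⁻¹ = (x : G) := fun t ht =>
      congrArg Subtype.val (hx ⟨t * x * t⁻¹, mul_mem (mul_mem ht x.2) (inv_mem ht)⟩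
        (Subtype.ext (ConjClasses.mk_eq_mk_iff_isConj.2 (IsConj.symm (isConj_iff.2 ⟨t, rfl⟩)))))
    have hxV : (x : G) ∈ V := Subgroup.mem_sup_right (hTC x x.2 (Subgroup.mem_centralizer_iff.2 fun q hq =>
      mul_inv_eq_iff_eq_mul.1 (hcen q (hVT (Subgroup.mem_sup_left hq)))))
    exact hfix' x hxV (congrArg Subtype.val (hx ⟨a * x * a⁻¹, hVT (haV x hxV)⟩
      (Subtype.ext (ConjClasses.mk_eq_mk_iff_isConj.2 (IsConj.symm (isConj_iff.2 ⟨a, rfl⟩))))))
  · rintro x ⟨hxV, hxF⟩
    have hmov : ∀ y : G, y ∈ V → y ∉ F → a * y * a⁻¹ ∈ V ∧ a * y * a⁻¹ ∉ F := fun y hy hyF =>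
      ⟨haV y hy, fun hh => hyF (hfix' y hy (mul_left_cancel (mul_right_cancel (hfix _ hh))))⟩
    set y := a * (x : G) * a⁻¹ with hy
    have hyP := hmov _ hxV hxF
    have hzP := hmov _ hyP.1 hyP.2
    have hxy : (x : G) ≠ y := fun e => hxF (hfix' _ hxV e.symm)
    have hyz : y ≠ a * y * a⁻¹ := fun e => hyP.2 (hfix' _ hyP.1 e.symm)
    have hxz : (x : G) ≠ a * y * a⁻¹ := fun e => hxF (hfix' _ hxV (by
      have h2 : a ^ 2 ^ 1 ∈ Subgroup.centralizer ({(x : G)} : Set G) :=
        Subgroup.mem_centralizer_singleton_iff.2 (by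
          have h4 : a ^ 2 * (x : G) * (a ^ 2)⁻¹ = x := by
            calc a ^ 2 * (x : G) * (a ^ 2)⁻¹ = a * y * a⁻¹ := by rw [hy, pow_two]; group
              _ = x := e.symm
          rw [pow_one]
          exact mul_inv_eq_iff_eq_mul.1 h4)
      have h3 := Subgroup.mem_centralizer_singleton_iff.1
        (Subgroup.zpowers_le.2 h2 (mem_zpowers_pow hao 1))
      rw [h3, mul_inv_cancel_right]))
    let e : Fin 3 → {z : ↥(T : Subgroup G) // z ∈ {x : ↥(T : Subgroup G) | (x : G) ∈ V ∧ (x : G) ∉ F} ∧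
        sylowClass T z = sylowClass T x} := ![⟨x, ⟨hxV, hxF⟩, rfl⟩,
      ⟨⟨y, hVT hyP.1⟩, hyP, Subtype.ext (ConjClasses.mk_eq_mk_iff_isConj.2
        (IsConj.symm (isConj_iff.2 ⟨a, rfl⟩)))⟩,
      ⟨⟨_, hVT hzP.1⟩, hzP, Subtype.ext (ConjClasses.mk_eq_mk_iff_isConj.2
        (IsConj.symm (isConj_iff.2 ⟨a * a, show a * a * (x : G) * (a * a)⁻¹ = a * (a * (x : G) * a⁻¹) * a⁻¹ by group⟩)))⟩]
    have he : Function.Injective e := by
      intro i j hij
      have := congrArg (fun z => ((z.1 : ↥(T : Subgroup G)) : G)) hij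
      fin_cases i <;> fin_cases j <;> first
        | rfl
        | exact absurd this hxy | exact absurd this.symm hxy | exact absurd this hyz
        | exact absurd this.symm hyz | exact absurd this hxz | exact absurd this.symm hxz
    simpa using Nat.card_le_card_of_injective e he
  · have hle : Nat.card {x : ↥(T : Subgroup G) | (x : G) ∈ F} = Nat.card F := Nat.card_congr
      { toFun := fun x => ⟨x.1.1, x.2⟩
        invFun := fun x => ⟨⟨x, hVT (hFV.le x.2)⟩, x.2⟩
        left_inv := fun _ => rfl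
        right_inv := fun _ => rfl }
    have hV' : Nat.card {x : ↥(T : Subgroup G) | (x : G) ∈ V ∧ (x : G) ∉ F} = Nat.card ((V : Set G) \ (F : Set G) : Set G) :=
      Nat.card_congr
      { toFun := fun x => ⟨x.1.1, x.2⟩
        invFun := fun x => ⟨⟨x, hVT x.2.1⟩, x.2⟩
        left_inv := fun _ => rfl
        right_inv := fun _ => rfl }
    rw [hle, hV', Nat.card_coe_set_eq, Set.ncard_sdiff (fun y hy => hFV.le hy)]
    simp only [← Nat.card_coe_set_eq, SetLike.coe_sort_coe]
    omega

/-- The number of classes of 2-elements is at most the class number of a Sylow 2-subgroup, with equality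
given a normal 2-complement. -/
theorem card_pClasses_le_classes (P : Sylow 2 G) :
    Nat.card (PiCls {2} G) ≤ Nat.card (ConjClasses ↥(P : Subgroup G)) ∧
      (Cfsg.HasNormalPComplement 2 G →
        Nat.card (ConjClasses ↥(P : Subgroup G)) ≤ Nat.card (PiCls {2} G)) := by
  haveI : Fact (Nat.Prime 2) := ⟨Nat.prime_two⟩
  let ψ : ConjClasses ↥(P : Subgroup G) → PiCls {2} G := Quotient.lift (sylowClass P) fun x y hxy =>
    Subtype.ext (ConjClasses.mk_eq_mk_iff_isConj.2 ((P : Subgroup G).subtype.map_isConj hxy))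
  have hsurj : Function.Surjective ψ := fun c => by
    obtain ⟨x, hx⟩ := sylowClass_surjective P c
    exact ⟨ConjClasses.mk x, hx⟩
  refine ⟨Nat.card_le_card_of_surjective ψ hsurj, ?_⟩
  rintro ⟨Q, N, hN, hc⟩
  refine Nat.card_le_card_of_injective ψ fun a b hab => ?_
  obtain ⟨a, rfl⟩ := ConjClasses.exists_rep a
  obtain ⟨b, rfl⟩ := ConjClasses.exists_rep b
  obtain ⟨g, hg⟩ := isConj_iff.1 (ConjClasses.mk_eq_mk_iff_isConj.1 (congrArg Subtype.val hab))
  let φ : ↥(P : Subgroup G) →* G ⧸ N := (QuotientGroup.mk' N).comp (P : Subgroup G).subtype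
  have hindex : N.index = Nat.card ↥(P : Subgroup G) := by
    rw [hc.symm.index_eq_card, Sylow.card_eq_multiplicity Q, Sylow.card_eq_multiplicity P]
  have hNodd : ¬ 2 ∣ Nat.card N := hc.index_eq_card ▸ Q.not_dvd_index
  have hinj : Function.Injective φ := by
    rw [← MonoidHom.ker_eq_bot_iff, eq_bot_iff]
    intro x hx
    have hxN : (x : G) ∈ N := by simpa [φ] using hx
    obtain ⟨k, hk⟩ := IsPGroup.iff_orderOf.1 P.2 x
    have hd : orderOf x ∣ Nat.card N := by
      rw [← Subgroup.orderOf_coe]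
      exact (Subgroup.orderOf_mk (G := G) (x : G) hxN) ▸ orderOf_dvd_natCard (⟨(x : G), hxN⟩ : N)
    rw [Subgroup.mem_bot, ← orderOf_eq_one_iff]
    rcases Nat.eq_zero_or_pos k with rfl | hk0
    · simpa using hk
    · exact absurd (((dvd_pow_self 2 hk0.ne').trans (hk ▸ dvd_rfl)).trans hd) hNodd
  have hbij : Function.Bijective φ := (Nat.bijective_iff_injective_and_card φ).2
    ⟨hinj, by rw [← Subgroup.index_eq_card, hindex]⟩
  obtain ⟨c, hc'⟩ := hbij.2 (g : G ⧸ N)
  refine ConjClasses.mk_eq_mk_iff_isConj.2 (isConj_iff.2 ⟨c, hinj ?_⟩)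
  rw [map_mul, map_mul, map_inv, hc']
  simp [φ, ← hg]

end Cfsg.Agent.Lib.PiClasses
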